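import Cfsg.Agent.H808.JD.Words
import Cfsg.Agent.H915.LD
import Cfsg.Agent.H659.AcIrr
import Cfsg.Agent.S1619
import Cfsg.Agent.S2040

/-!
# The Hall-Janko group in characteristic two, degree 12 (helper808)

* `not_irr` : `J2` has no absolutely irreducible representation of degree 12 in characteristic two;
* **`core_false`** : `Core P`, `P / scalars ≃ J2`, characteristic two, degree 12 is impossible.
-/

set_option autoImplicit false

namespace Cfsg.Agent.H808.JD

open Cfsg Cfsg.Geo Matrix

universe u v

/-- the group on 100 points -/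
theorem hundred {F : Type u} [Field F] [CharP F 2] {ι : Type} [Fintype ι] [DecidableEq ι]
    (hd : Fintype.card ι = 12) (f : SporadicA.J2Hundred.G →* GL ι F)
    (hs : Submodule.span F (matrixSet f.range) = ⊤) (hx : f (J2.HundredGens.gw Words.wx) ≠ 1) : False := by
  let E := AlgebraicClosure F
  have : CharP E 2 := charP_of_injective_algebraMap (algebraMap F E).injective 2
  have hfr : Module.finrank E (ι → E) = 12 := by rw [Module.finrank_fintype_fun_eq_card, hd]
  have hρx : H659.Ac.rp E f (J2.HundredGens.gw Words.wx) ≠ 1 := by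
    intro h
    apply hx
    apply Units.ext
    have h1 : ((f (J2.HundredGens.gw Words.wx) : GL ι F) : Matrix ι ι F).map (algebraMap F E) = 1 := by
      apply Matrix.mulVec_injective
      funext v
      rw [← H659.Ac.rp_apply, h, one_mulVec]
      rfl
    ext i j
    have h2 := congrFun (congrFun h1 i) j
    rw [Matrix.map_apply] at h2
    apply (algebraMap F E).injective
    rw [h2, Units.val_one]
    by_cases hij : i = j
    · subst hij; rw [one_apply_eq, one_apply_eq, map_one]
    · rw [one_apply_ne hij, one_apply_ne hij, map_zero]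
  obtain ⟨M, hM0, hM1, hM⟩ := Words.dat.reducible (H659.Ac.rp E f) hfr hρx
  rcases H659.Ac.rp_irr E f rfl hs M hM with h | h
  · exact hM0 h
  · exact hM1 h

theorem x_ne_of_inj {F : Type u} [Field F] {ι : Type} [Fintype ι] [DecidableEq ι]
    {f : SporadicA.J2Hundred.G →* GL ι F} (hf : Function.Injective f) : f (J2.HundredGens.gw Words.wx) ≠ 1 := by
  intro h
  apply Words.x_ne
  apply hf
  rw [h, map_one]

/-- **no absolutely irreducible representation of degree 12** -/
theorem not_irr {F : Type u} [Field F] [CharP F 2] {G : Type v} [Group G] (hJ : Spor.IsoJ2 G) {ι : Type} [Fintype ι]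
    [DecidableEq ι] (hd : Fintype.card ι = 12) (f : G →* GL ι F) (hf : Function.Injective f) :
    ¬ ActsAbsolutelyIrreducibly (matrixSet f.range) := by
  intro hirr
  obtain ⟨e⟩ := hJ
  obtain ⟨e'⟩ := Cfsg.Agent.J2.HundredGens.J2_iso Cfsg.Agent.S1619.result.2.2.2
  let E : G ≃* SporadicA.J2Hundred.G := e.trans e'
  have hr : (f.comp E.symm.toMonoidHom).range = f.range := by
    rw [MonoidHom.range_comp]
    have h2 : (E.symm.toMonoidHom).range = ⊤ := MonoidHom.range_eq_top.2 E.symm.surjective
    rw [h2, ← MonoidHom.range_eq_map]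
  apply hundred hd (f.comp E.symm.toMonoidHom)
  · rw [hr]
    exact H920.span_eq_top hirr
  · exact x_ne_of_inj (hf.comp E.symm.injective)

open Cfsg.Agent.H915.LD

/-- the scalars of `P` are trivial -/
theorem scalars_bot {F : Type u} [Field F] [Finite F] [CharP F 2] {ι : Type} [Fintype ι] [DecidableEq ι]
    {P : Subgroup (GL ι F)} (hC : Core P) (hJ : Spor.IsoJ2 (Soc P)) : (scalars ι F).subgroupOf P = ⊥ := by
  obtain ⟨e⟩ := hJ
  have h1 : Nat.card ((scalars ι F).subgroupOf P) ∣ 2 := by
    have h2 := hC.card_scalars_dvd e Cfsg.Agent.S2040.result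
    have h3 : Nat.card (Multiplicative (ZMod 2)) = 2 := by
      rw [Nat.card_eq_fintype_card, Fintype.card_multiplicative, ZMod.card]
    rwa [h3] at h2
  rw [Subgroup.eq_bot_iff_forall]
  intro z hz
  have h3 : z ^ 2 = 1 := by
    have h4 : (⟨z, hz⟩ : (scalars ι F).subgroupOf P) ^ Nat.card ((scalars ι F).subgroupOf P) = 1 := pow_card_eq_one'
    obtain ⟨m, hm⟩ := h1
    have h5 : z ^ Nat.card ((scalars ι F).subgroupOf P) = 1 := congrArg Subtype.val h4
    rw [hm, pow_mul, h5, one_pow]
  have hne := hC.nonempty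
  rw [Subgroup.mem_subgroupOf, mem_scalars_iff] at hz
  obtain ⟨c, hc⟩ := hz
  have h4 : ((z : GL ι F) : Matrix ι ι F) ^ 2 = 1 := by
    rw [← Units.val_pow_eq_pow_val, ← Subgroup.coe_pow, h3]
    rfl
  rw [hc, smul_pow, one_pow] at h4
  have h5 : (c : F) ^ 2 = 1 := by
    obtain ⟨i⟩ := hne
    have := congrFun (congrFun h4 i) i
    simpa using this
  have h6 : ((c : F) - 1) ^ 2 = 0 := by
    have h7 : (2 : F) = 0 := CharP.cast_eq_zero F 2
    linear_combination h5 - ((c : F) - 1) * h7
  have h7 : (c : F) = 1 := sub_eq_zero.1 (pow_eq_zero_iff two_ne_zero |>.1 h6)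
  apply Subtype.ext
  apply Units.ext
  rw [hc, h7, one_smul]
  rfl

/-- **no core of type `J2` of degree 12 in characteristic two** -/
theorem core_false {F : Type u} [Field F] [Finite F] [CharP F 2] {ι : Type} [Fintype ι] [DecidableEq ι]
    {P : Subgroup (GL ι F)} (hC : Core P) (hJ : Spor.IsoJ2 (Soc P)) (hd : Fintype.card ι = 12) : False := by
  have hb := scalars_bot hC hJ
  have hinj : Function.Injective (toSoc P) := by
    rw [← MonoidHom.ker_eq_bot_iff, ker_toSoc, hb]
  let e : P ≃* Soc P := MulEquiv.ofBijective (toSoc P) ⟨hinj, toSoc_surjective P⟩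
  obtain ⟨e'⟩ := hJ
  refine not_irr (G := P) ⟨e.trans e'⟩ hd P.subtype P.subtype_injective ?_
  rw [Subgroup.range_subtype]
  exact hC.absIrred

end Cfsg.Agent.H808.JD
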