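import Cfsg.Agent.H808.JD.Alg
import Cfsg.Agent.J2.HundredGens

/-!
# The elements of `Dat` in the Hall-Janko group on 100 points (helper808)
-/

set_option autoImplicit false
set_option maxRecDepth 100000

namespace Cfsg.Agent.H808.JD

open Cfsg.Agent.J2.HundredGens Cfsg.Agent.SporadicA.PermTab Cfsg.Agent.SporadicA.J2Hundred

namespace Words

/-- class 3A -/
def wx : List ℕ := [4, 3]
/-- class 3B -/
def w1 : List ℕ := [1, 0, 1, 2, 3, 4, 2, 3, 1, 2, 3, 4, 1, 2, 3, 2]
/-- class 3B -/
def w2 : List ℕ := [2, 3, 4, 2, 3, 2, 0, 1, 0, 1, 2, 3, 4, 2, 3, 1, 2, 3, 4, 1, 2, 3, 2, 3, 1, 0]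
/-- order 8 -/
def wh : List ℕ := [2, 3, 4, 2, 3, 2, 0, 1, 0]
/-- commutes with `w1` -/
def wv : List ℕ := [2, 3, 2, 3, 1, 2, 3, 4, 3, 2, 0, 1, 0, 1, 2, 0]
/-- an involution, `⟨wr, wx⟩ = A5` -/
def wr : List ℕ := [2, 3, 1, 2, 3, 4, 3, 2, 3, 1, 2, 1]
/-- an involution of `⟨wr, wx⟩` -/
def wr1 : List ℕ := [0, 1, 2, 3, 1, 0, 1, 2, 3, 4, 3, 2, 3, 2, 1, 0, 1, 2, 1, 0]
/-- order 3 -/
def wn : List ℕ := [4, 1, 2, 3, 2, 1, 0, 1, 2, 3, 4, 2]

theorem gm (L M : List ℕ) : gw L * gw M = gw (L ++ M) := Subtype.ext (pw_mul L M)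

theorem ge {L M : List ℕ} (h : chk L M = true) : gw L = gw M := Subtype.ext (pw_eq h)

theorem g1 : gw [] = 1 := Subtype.ext pw_nil

theorem gi (L : List ℕ) : (gw L)⁻¹ = gw L.reverse := Subtype.ext (pw_inv L)

theorem gen_eq {S : Subgroup G} (h : ∀ k < 5, gw [k] ∈ S) : S = ⊤ := by
  have hle : Subgroup.closure gens ≤ S.map G.subtype := by
    rw [Subgroup.closure_le]
    rintro p (rfl | rfl | rfl | rfl | rfl)
    · exact ⟨gw [0], h 0 (by norm_num), mul_one _⟩
    · exact ⟨gw [1], h 1 (by norm_num), mul_one _⟩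
    · exact ⟨gw [2], h 2 (by norm_num), mul_one _⟩
    · exact ⟨gw [3], h 3 (by norm_num), mul_one _⟩
    · exact ⟨gw [4], h 4 (by norm_num), mul_one _⟩
  rw [eq_top_iff]
  intro a _
  obtain ⟨b, hb, hab⟩ := hle a.2
  rwa [← Subtype.ext hab]

/-- words in words -/
theorem mem_flat {S : Subgroup G} {m : ℕ} (lt : Fin m → List ℕ) (h : ∀ i, gw (lt i) ∈ S) (W : List (Fin m)) :
    gw (W.flatMap lt) ∈ S := by
  induction W with
  | nil => rw [List.flatMap_nil, g1]; exact S.one_mem
  | cons i W ih =>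
    rw [List.flatMap_cons, ← gm]
    exact S.mul_mem (h i) ih

/-- letters for the first generating set -/
def lt1 : Fin 6 → List ℕ := ![w1, w1.reverse, w2, w2.reverse, wv ++ w2 ++ wv.reverse, (wv ++ w2 ++ wv.reverse).reverse]

/-- letters for the second generating set -/
def lt2 : Fin 5 → List ℕ := ![wr, wx, wx.reverse, wn, wn.reverse]

/-- **the data** -/
theorem dat : Dat (gw wx) (gw w1) (gw w2) (gw wh) (gw wv) (gw wr) (gw wr1) (gw wn) where
  x3 := by simp only [gm]; rw [← g1]; exact ge (by decide +kernel)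
  a3 := by simp only [gm]; rw [← g1]; exact ge (by decide +kernel)
  b3 := by simp only [gm]; rw [← g1]; exact ge (by decide +kernel)
  tt := by simp only [gm]; exact ge (by decide +kernel)
  ax := by simp only [gm]; exact ge (by decide +kernel)
  bx := by simp only [gm]; exact ge (by decide +kernel)
  hx := by simp only [gm]; exact ge (by decide +kernel)
  h1 := by simp only [gm]; exact ge (by decide +kernel)
  h2 := by simp only [gm]; exact ge (by decide +kernel)
  v1 := by simp only [gm]; exact ge (by decide +kernel)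
  gen1 := by
    set S := Subgroup.closure {gw w1, gw w2, gw wv * gw w2 * (gw wv)⁻¹} with hS
    have ha : gw w1 ∈ S := Subgroup.subset_closure (Or.inl rfl)
    have hb : gw w2 ∈ S := Subgroup.subset_closure (Or.inr (Or.inl rfl))
    have hc : gw (wv ++ w2 ++ wv.reverse) ∈ S := by
      rw [← gm, ← gm, ← gi]
      exact Subgroup.subset_closure (Or.inr (Or.inr rfl))
    have hl : ∀ i, gw (lt1 i) ∈ S := by
      intro i
      fin_cases i
      · exact ha
      · change gw w1.reverse ∈ S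
        rw [← gi]; exact S.inv_mem ha
      · exact hb
      · change gw w2.reverse ∈ S
        rw [← gi]; exact S.inv_mem hb
      · exact hc
      · change gw (wv ++ w2 ++ wv.reverse).reverse ∈ S
        rw [← gi]; exact S.inv_mem hc
    have hk : ∀ (k : ℕ) (W : List (Fin 6)), chk [k] (W.flatMap lt1) = true → gw [k] ∈ S := by
      intro k W h
      rw [ge h]
      exact mem_flat lt1 hl W
    apply gen_eq
    intro k hk5
    interval_cases k
    · exact hk 0 [2, 4, 0, 3, 0, 5, 3, 1, 4, 0, 3] (by decide +kernel)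
    · exact hk 1 [3, 1, 5, 0, 2, 0, 4, 2, 1, 5, 0] (by decide +kernel)
    · exact hk 2 [4, 2, 4, 0, 2, 5, 2, 5, 1, 3, 4, 1] (by decide +kernel)
    · exact hk 3 [1, 5, 2, 1, 4, 3, 5, 3, 5, 2, 0] (by decide +kernel)
    · exact hk 4 [4, 2, 1, 4, 3, 5, 0, 2, 0, 4, 3] (by decide +kernel)
  r2 := by simp only [gm]; rw [← g1]; exact ge (by decide +kernel)
  y5 := by simp only [gm]; rw [← g1]; exact ge (by decide +kernel)
  r1w := by simp only [gm]; exact ge (by decide +kernel)
  ry := by simp only [gm]; exact ge (by decide +kernel)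
  n3 := by simp only [gm]; rw [← g1]; exact ge (by decide +kernel)
  nr := by simp only [gm]; exact ge (by decide +kernel)
  ny := by simp only [gm, gi]; exact ge (by decide +kernel)
  nyy := by simp only [gm, gi]; rw [← g1]; exact ge (by decide +kernel)
  gen2 := by
    set S := Subgroup.closure {gw wr, gw wx, gw wn} with hS
    have ha : gw wr ∈ S := Subgroup.subset_closure (Or.inl rfl)
    have hb : gw wx ∈ S := Subgroup.subset_closure (Or.inr (Or.inl rfl))
    have hc : gw wn ∈ S := Subgroup.subset_closure (Or.inr (Or.inr rfl))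
    have hl : ∀ i, gw (lt2 i) ∈ S := by
      intro i
      fin_cases i
      · exact ha
      · exact hb
      · change gw wx.reverse ∈ S
        rw [← gi]; exact S.inv_mem hb
      · exact hc
      · change gw wn.reverse ∈ S
        rw [← gi]; exact S.inv_mem hc
    have hk : ∀ (k : ℕ) (W : List (Fin 5)), chk [k] (W.flatMap lt2) = true → gw [k] ∈ S := by
      intro k W h
      rw [ge h]
      exact mem_flat lt2 hl W
    apply gen_eq
    intro k hk5
    interval_cases k
    · exact hk 0 [4, 0, 4, 0, 3, 0, 2, 4, 1, 4, 2, 0] (by decide +kernel)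
    · exact hk 1 [3, 0, 3, 0, 4, 0, 4, 0, 3, 0, 3, 0] (by decide +kernel)
    · exact hk 2 [4, 1, 3, 1, 0, 4, 2, 3, 1, 3, 0, 3, 0] (by decide +kernel)
    · exact hk 3 [1, 3, 0, 2, 4, 1, 4, 1, 0, 1, 3, 0] (by decide +kernel)
    · exact hk 4 [4, 0, 1, 4, 2, 4, 2, 4, 1, 0, 3] (by decide +kernel)

theorem x_ne : gw wx ≠ 1 := by
  intro h
  have h1 : pw wx = 1 := congrArg Subtype.val h
  have h2 := pw_val wx 0
  rw [h1] at h2
  revert h2
  decide +kernel

end Words

end Cfsg.Agent.H808.JD
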